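import Cfsg.Agent.Lib.Sims3.Core

set_option autoImplicit false

/-!
# From primitive actions with a suborbit of length three to amalgams
-/

namespace Cfsg.Agent.Lib.Sims3

theorem action_amal {G Ω : Type*} [Group G] [Finite G] [MulAction G Ω] [FaithfulSMul G Ω]
    (hprim : MulAction.IsPreprimitive G Ω) (a b : Ω)
    (h3 : Nat.card (MulAction.orbit (MulAction.stabilizer G a) b) = 3) :
    ∃ (K A : Subgroup G) (s : G) (t : ℕ), Amal (MulAction.stabilizer G a) K A s ∧
      Nat.card A = 2 ^ t ∧ (∀ L : Subgroup G, MulAction.stabilizer G a ≤ L → K ≤ L → L = ⊤) := by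
  classical
  set H := MulAction.stabilizer G a with hH
  set K := MulAction.stabilizer G b with hK
  set A := H ⊓ K with hA
  have hidx : A.relIndex H = 3 := by
    have h1 : A.subgroupOf H = MulAction.stabilizer H b := by
      ext x
      rw [Subgroup.mem_subgroupOf, MulAction.mem_stabilizer_iff]
      constructor
      · intro hx
        exact hx.2
      · intro hx
        exact ⟨x.2, hx⟩
    rw [Subgroup.relIndex, h1, Subgroup.index, ← h3]
    exact (Nat.card_congr (MulAction.orbitEquivQuotientStabilizer H b)).symm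
  haveI := hprim.toIsPretransitive
  obtain ⟨g₀, hg₀⟩ := MulAction.exists_smul_eq G a b
  have hg : ∀ x, g₀ * x * g₀⁻¹ ∈ K ↔ x ∈ H := by
    intro x
    rw [hK, hH, MulAction.mem_stabilizer_iff, MulAction.mem_stabilizer_iff]
    have h1 : g₀⁻¹ • b = a := by rw [← hg₀, inv_smul_smul]
    rw [mul_smul, mul_smul, h1, ← hg₀]
    exact smul_left_cancel_iff g₀
  have hcardHK : Nat.card H = Nat.card K := Amal.card_transfer g₀ hg
  have hKH : ¬ K ≤ H := by
    intro hle
    have h1 : K = H := Subgroup.eq_of_le_of_card_ge hle (by rw [hcardHK])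
    have h2 : A = H := by
      rw [hA, h1, inf_idem]
    rw [h2, Subgroup.relIndex_self] at hidx
    omega
  haveI : Nontrivial Ω := by
    by_contra hnt
    rw [not_nontrivial_iff_subsingleton] at hnt
    apply hKH
    intro x _
    rw [hH, MulAction.mem_stabilizer_iff]
    exact Subsingleton.elim _ _
  have hgen : ∀ L : Subgroup G, H ≤ L → K ≤ L → L = ⊤ := by
    intro L hHL hKL
    have hco : IsCoatom H := MulAction.IsPreprimitive.isCoatom_stabilizer_of_isPreprimitive (G := G) a
    refine hco.2 L (lt_of_le_of_ne hHL ?_)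
    rintro rfl
    exact hKH hKL
  have cf : ∀ X : Subgroup G, X ≤ H → (∀ h ∈ H, ∀ x ∈ X, h * x * h⁻¹ ∈ X) →
      (∀ h ∈ K, ∀ x ∈ X, h * x * h⁻¹ ∈ X) → X = ⊥ := by
    intro X hXH hHX hKX
    have hN : Subgroup.normalizer (X : Set G) = ⊤ := by
      apply hgen
      · intro h hh
        exact mem_nz (hHX h hh)
      · intro h hh
        exact mem_nz (hKX h hh)
    have hnorm : ∀ g : G, ∀ x ∈ X, g * x * g⁻¹ ∈ X := by
      intro g x hx
      have h1 : g ∈ Subgroup.normalizer (X : Set G) := by rw [hN]; trivial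
      exact (Subgroup.mem_normalizer_iff.1 h1 x).1 hx
    rw [eq_bot_iff]
    intro x hx
    rw [Subgroup.mem_bot]
    apply FaithfulSMul.eq_of_smul_eq_smul (α := Ω)
    intro ω
    obtain ⟨g, hgω⟩ := MulAction.exists_smul_eq G a ω
    have h1 := hnorm g⁻¹ x hx
    have h2 := hXH h1
    rw [hH, MulAction.mem_stabilizer_iff] at h2
    rw [one_smul, ← hgω]
    have h3 : x • g • a = g • (g⁻¹ * x * g⁻¹⁻¹) • a := by
      simp [mul_smul]
    rw [h3, h2]
  obtain ⟨s, t, hs, ht⟩ := exists_amal (K := K) (A := A) inf_le_left inf_le_right hidx hg cf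
  exact ⟨K, A, s, t, hs, ht, hgen⟩

end Cfsg.Agent.Lib.Sims3
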